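import Cfsg.Agent.H476.Conj.Prime
import Cfsg.Agent.H845.CopTits
import Cfsg.Agent.H800.Sp.TitsFive
import Cfsg.Agent.H87.TitsData
import Cfsg.Agent.S1074
import Cfsg.Agent.Characters.SchurBound

/-!
# The conjugation character: the Tits group (S4792, helper476)

The Sylow 13-subgroup is a CC-subgroup with `|N : C| = 6`.  All nontrivial characters have degree `≥ 24` by the value
on the Sylow 5-subgroup, whose nontrivial elements are conjugate.
-/

set_option autoImplicit false

open Cfsg

namespace Cfsg.Agent.H476.Conj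

open Cfsg.Lie Cfsg.Agent.H430.Conj Cfsg.Agent.Characters.Core Subgroup

universe u

/-- a subgroup of order 25 whose nontrivial elements are conjugate -/
def Five (G : Type u) [Group G] : Prop :=
  ∃ P : Subgroup G, Nat.card P = 25 ∧ ∀ x ∈ P, x ≠ 1 → ∀ y ∈ P, y ≠ 1 → ∃ s : G, s * x * s⁻¹ = y

/-- a lower bound for the degrees -/
theorem Five.le_deg {G : Type u} [Group G] [Finite G] [IsSimpleGroup G] (h : Five G) {χ : G → ℂ}
    (hχ : IsIrrCharacter G χ) (h1 : χ ≠ 1) {d : ℕ} (hd : χ 1 = d) : 24 ≤ d := by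
  classical
  obtain ⟨P, hP, hfus⟩ := h
  have := Fintype.ofFinite P
  have hPc : Fintype.card P = 25 := by rw [← Nat.card_eq_fintype_card, hP]
  have hnt : Nontrivial P := by
    rw [← Finite.one_lt_card_iff_nontrivial, hP]; norm_num
  obtain ⟨y, hy⟩ := exists_ne (1 : P)
  have hy1 : (y : G) ≠ 1 := fun h => hy (Subtype.ext h)
  obtain ⟨n, hn⟩ := sum_eq_nat (isIrr_isCharacter hχ) P
  have hcl := isCharacter_isClassFunction (isIrr_isCharacter hχ)
  have hval : ∀ x ∈ Finset.univ.erase (1 : P), χ (x : G) = χ y := by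
    intro x hx
    obtain ⟨s, hs⟩ := hfus y y.2 hy1 x x.2 fun h => (Finset.mem_erase.1 hx).1 (Subtype.ext h)
    rw [← hs]
    exact hcl y s
  rw [finsum_eq_sum_of_fintype, ← Finset.add_sum_erase _ _ (Finset.mem_univ (1 : P)), Finset.sum_congr rfl hval,
    Finset.sum_const, Finset.card_erase_of_mem (Finset.mem_univ _), Finset.card_univ, hPc, Subgroup.coe_one, hd, hP,
    nsmul_eq_mul] at hn
  push_cast at hn
  obtain ⟨w, hw⟩ : ∃ w : ℤ, χ y = w := by
    refine Characters.GaloisBasic.exists_int_of_isIntegral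
      (Characters.GaloisBasic.isIntegral_apply (isIrr_isCharacter hχ) y) ⟨(25 * n - d) / 24, ?_⟩
    push_cast
    linear_combination hn / 24
  rw [hw] at hn
  have hn' : (d : ℤ) + 24 * w = 25 * n := by
    have h : (((d : ℤ) + 24 * w : ℤ) : ℂ) = ((25 * n : ℤ) : ℂ) := by
      push_cast
      exact hn
    exact Int.cast_injective h
  have h2 := Characters.SchurBound.norm_le (isIrr_isCharacter hχ) hd y
  rw [hw] at h2
  have h3 : |w| ≤ d := by
    rw [Complex.norm_intCast] at h2
    exact_mod_cast h2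
  rw [abs_le] at h3
  by_contra hlt
  push Not at hlt
  have h4 : w = d := by omega
  obtain ⟨k, ρ, hρ, rfl⟩ := hχ
  have h5 : ρ.character y = (Module.finrank ℂ (Fin k → ℂ) : ℂ) := by
    rw [hw, h4, ← Representation.char_one ρ, hd]
    push_cast
    rfl
  have h6 := (Characters.Values.character_eq_finrank_iff ρ y).1 h5
  exact hy1 (injective_of_simple hρ h1 (by rw [h6, map_one]; rfl))

theorem five_C : Five Cfsg.Agent.Omega.TwoF.Tits.C :=
  ⟨Cfsg.Agent.CpAutTits.Fus.P, Cfsg.Agent.CpAutTits.Fus.card_P, fun x hx hx1 y hy hy1 => by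
    obtain ⟨s, -, hs⟩ := Cfsg.Agent.CpAutTits.Fus.fus hx hx1 hy hy1
    exact ⟨s, hs⟩⟩

theorem five_aux (K : Subgroup (Matrix.GeneralLinearGroup Cfsg.Agent.ChevalleyStructure.Tits.Mat.I52 (ZMod 2)))
    (hK : K = Cfsg.Agent.ChevalleyStructure.Tits.Order.H0) : Five ↥(_root_.commutator K) := by
  subst hK
  exact five_C

theorem five_tits : Five Cfsg.Lie.TitsGroup :=
  five_aux (Cfsg.Lie.twistedF4 (ZMod 2) 1) Cfsg.Agent.ChevalleyStructure.Tits.Main.T0_eq_H0

/-- **the row of the Tits group** -/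
theorem row_aux {G : Type} [Group G] [Finite G] (hG : Cfsg.Lie.IsoTits G) (hs : IsSimpleGroup G)
    (hc : Nat.card G = 2 ^ 11 * 3 ^ 3 * 5 ^ 2 * 13) (D : H87.TitsAbs.Dat G) (h5 : Five G) : Row G := by
  have f13 : Fact (Nat.Prime 13) := ⟨by norm_num⟩
  have hC := H845.CopTits.card_cent_x hG D
  have hx : orderOf D.x = 13 := orderOf_eq_prime D.x13 D.x1
  have hZ : Nat.card (zpowers D.x) = 13 := by rw [Nat.card_zpowers, hx]
  obtain ⟨P, hxP⟩ := (IsPGroup.of_card (G := zpowers D.x) (p := 13) (n := 1) (by rw [pow_one, hZ])).exists_le_sylow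
  have hPc : Nat.card P = 13 :=
    Cfsg.Agent.H661.Spor.card_sylow_eq P (by rw [hc]; norm_num) (by rw [hc]; norm_num)
  have hP : (P : Subgroup G) = zpowers D.x := (eq_of_le_of_card_ge hxP (by rw [hPc, hZ])).symm
  have hCP : centralizer (P : Set G) = (P : Subgroup G) := by
    have h1 : centralizer (((P : Subgroup G)) : Set G) = centralizer {D.x} := by
      rw [hP, zpowers_eq_closure, centralizer_closure]
    change centralizer (((P : Subgroup G)) : Set G) = (P : Subgroup G)
    symm
    apply Subgroup.eq_of_le_of_card_ge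
    · rw [h1, hP, zpowers_le]
      exact mem_centralizer_singleton_iff.2 rfl
    · rw [h1, hC]
      exact hPc.ge
  refine row_of_prime_le (by norm_num) P hPc hCP fun χ d hχ h1 hd => ?_
  have := h5.le_deg hχ h1 hd
  omega

theorem iso_refl : Cfsg.Lie.IsoTits Cfsg.Lie.TitsGroup := ⟨MulEquiv.refl _⟩

theorem row_TG (hfin : Finite Cfsg.Lie.TitsGroup) : Row Cfsg.Lie.TitsGroup := by
  obtain ⟨_, hs, _, hcard⟩ := Cfsg.Agent.S1074.result
  obtain ⟨D⟩ := H87.TitsData.dat_tits
  have h5 := five_tits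
  exact row_aux iso_refl hs hcard D h5

theorem row_congr {G : Type} {H : Type*} [Group G] [Group H] (hG : Finite G → Row G) (e : H ≃* G) (hH : Finite H) :
    Row H :=
  have hfin : Finite G := Finite.of_equiv H e.toEquiv
  Row.of_equiv e.symm (hG hfin)

/-- **the row of the Tits group** -/
theorem row_tits {S : Type*} [Group S] [hf : Finite S] (h : Lie.IsoTits S) (_hs : IsSimpleGroup S) : Row S := by
  obtain ⟨e⟩ := h
  exact row_congr row_TG e hf

end Cfsg.Agent.H476.Conj
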